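import Cfsg.Agent.H54.PQ.Defs
import Cfsg.Agent.H489.OutSpor
import Cfsg.Agent.H753.ResCard
import Cfsg.Agent.H388.EvenFixAll
import Cfsg.Prelude.Def_Classification2

/-!
# S4981, section 3: alternating, sporadic groups and the Tits group (helper353)

* `sfact_of_mulAut` : the primes dividing `|Aut S|` divide `|S|`;
* `sfact_alt`, `sfact_sporadic`, `sfact_tits`, `sfact_small`.
-/

set_option autoImplicit false

open Cfsg Subgroup

namespace Cfsg.Agent.H353.PQ

open Cfsg.Agent.H54.PQ

universe u

/-- every prime divisor of `|Aut S|` divides `|S|` -/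
theorem sfact_of_mulAut {S : Type u} [Group S] [Finite S]
    (h : ∀ q : ℕ, q.Prime → q ∣ Nat.card (MulAut S) → q ∣ Nat.card S) (p q : ℕ) : SFact p q S := by
  intro hp hq hpq hqS A Φ hsit hinv
  have : Fact p.Prime := ⟨hp⟩
  have : Fact q.Prime := ⟨hq⟩
  have hfin : Finite (MulAut S) := Finite.of_injective (fun f : MulAut S => (f : S → S)) DFunLike.coe_injective
  have h1 : Φ = ⊥ := by
    obtain ⟨n, hn⟩ := IsPGroup.iff_card.1 hsit.qΦ
    rw [Subgroup.eq_bot_iff_card, hn]
    rcases Nat.eq_zero_or_pos n with rfl | h0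
    · exact pow_zero q
    · exfalso
      refine hqS (h q hq ?_)
      have h2 : q ∣ Nat.card Φ := by
        rw [hn]
        exact dvd_pow_self q h0.ne'
      exact h2.trans (Subgroup.card_subgroup_dvd_card Φ)
  subst h1
  exact centSyl_bot p

/-- `|Out S| ≤ 2` -/
theorem sfact_of_out {S : Type u} [Group S] [Finite S] [IsSimpleGroup S] (hna : ¬ IsMulCommutative S)
    (h : Nat.card (Out S) ≤ 2) (p q : ℕ) : SFact p q S := by
  refine sfact_of_mulAut (fun q hq hd => ?_) p q
  have hfin : Finite (MulAut S) := Finite.of_injective (fun f : MulAut S => (f : S → S)) DFunLike.coe_injective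
  have h2 : 2 ∣ Nat.card S := (H388.EvenFixAll.even_card hna).two_dvd
  have h3 : Nat.card (MulAut S) = Nat.card (Out S) * Nat.card (MulAut.conj : S →* MulAut S).range := by
    rw [H55.OutGen.card_out_eq_index, mul_comm]
    exact (Subgroup.card_mul_index _).symm
  rw [h3] at hd
  rcases hq.dvd_mul.1 hd with h4 | h4
  · have h5 : 0 < Nat.card (Out S) := by
      rw [H55.OutGen.card_out_eq_index]
      exact Nat.pos_of_ne_zero Subgroup.index_ne_zero_of_finite
    have h6 : q = 2 := by
      have h7 := Nat.le_of_dvd h5 h4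
      have := hq.two_le
      omega
    rw [h6]
    exact h2
  · exact h4.trans (Subgroup.card_range_dvd _)

theorem mulAut_congr {S T : Type*} [Group S] [Group T] (e : S ≃* T) : Nat.card (MulAut S) = Nat.card (MulAut T) :=
  Nat.card_congr (MulAut.congr e).toEquiv

/-- **The alternating groups.** -/
theorem sfact_alt {S : Type u} [Group S] [Finite S] [IsSimpleGroup S] (hna : ¬ IsMulCommutative S)
    (h : IsAlternating S) (p q : ℕ) : SFact p q S := by
  obtain ⟨n, hn, ⟨e⟩⟩ := h
  by_cases h6 : n = 6
  · subst h6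
    refine sfact_of_mulAut (fun q hq hd => ?_) p q
    rw [mulAut_congr e] at hd
    rw [Nat.card_congr e.toEquiv]
    have h1 : Nat.card (alternatingGroup (Fin 6)) = 360 := by
      have h3 : 2 * Nat.card (alternatingGroup (Fin 6)) = Nat.card (Equiv.Perm (Fin 6)) := by
        rw [Nat.card_eq_fintype_card, Nat.card_eq_fintype_card]
        exact two_mul_card_alternatingGroup
      rw [Nat.card_eq_fintype_card (α := Equiv.Perm (Fin 6)), Fintype.card_perm, Fintype.card_fin] at h3
      have h4 : Nat.factorial 6 = 720 := rfl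
      omega
    rw [h1]
    have h2 := hd.trans H753.ResCard.card_mulAut_A6
    have h3 : q ∣ 4 * 360 := h2
    rcases hq.dvd_mul.1 h3 with h4 | h4
    · have h5 : q ∣ 2 := hq.dvd_of_dvd_pow (show q ∣ 2 ^ 2 from h4)
      exact h5.trans (by norm_num)
    · exact h4
  · exact sfact_of_out hna (by rw [H55.OutGen.card_out_congr e, H489.card_out_alt hn h6]) p q

/-- **The sporadic groups.** -/
theorem sfact_sporadic {S : Type u} [Group S] [Finite S] [IsSimpleGroup S] (hna : ¬ IsMulCommutative S)
    (h : IsSporadicGroup S) (p q : ℕ) : SFact p q S := sfact_of_out hna (H489.card_out_sporadic h) p q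

/-- **The Tits group.** -/
theorem sfact_tits {S : Type u} [Group S] [Finite S] [IsSimpleGroup S] (hna : ¬ IsMulCommutative S)
    (h : Lie.IsoTits S) (p q : ℕ) : SFact p q S := sfact_of_out hna (H489.card_out_tits h) p q

/-- **The small row.** -/
theorem sfact_small {S : Type u} [Group S] [Finite S] [IsSimpleGroup S] (hna : ¬ IsMulCommutative S)
    (h : IsAlternating S ∨ IsSporadicGroup S ∨ Lie.IsoTits S) (p q : ℕ) : SFact p q S := by
  rcases h with h | h | h
  · exact sfact_alt hna h p q
  · exact sfact_sporadic hna h p q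
  · exact sfact_tits hna h p q

end Cfsg.Agent.H353.PQ
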